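import Mathlib
import Cfsg.Prelude.Def_SylowChains

/-!
The graph of Sylow `p`-subgroups with nontrivial intersections, and strongly `p`-embedded subgroups.
-/

set_option autoImplicit false

namespace Cfsg.Agent.SylowGraph

open Subgroup
open scoped Pointwise

variable {G : Type*} [Group G] {p : ℕ}

/-- The classical definition of a strongly `p`-embedded subgroup, without properness. -/
def SE (p : ℕ) (H : Subgroup G) : Prop :=
  ∀ g : G, g ∉ H → ¬ p ∣ Nat.card ↥(H ⊓ H.map (MulAut.conj g).toMonoidHom)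

/-- Two Sylow subgroups are adjacent if they are distinct and meet nontrivially. -/
def Adj (S T : Sylow p G) : Prop := S ≠ T ∧ (S : Subgroup G) ⊓ (T : Subgroup G) ≠ ⊥

theorem adj_symm {S T : Sylow p G} (h : Adj S T) : Adj T S :=
  ⟨h.1.symm, by rw [inf_comm]; exact h.2⟩

theorem mem_smul {g x : G} {S : Sylow p G} :
    x ∈ (g • S : Sylow p G) ↔ g⁻¹ * x * g ∈ S := by
  change x ∈ ((g • S : Sylow p G) : Subgroup G) ↔ _
  rw [Sylow.coe_subgroup_smul, Subgroup.mem_pointwise_smul_iff_inv_smul_mem]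
  simp only [MulAut.smul_def, MulAut.conj_inv_apply]
  rfl

theorem adj_smul (g : G) {S T : Sylow p G} (h : Adj S T) : Adj (g • S) (g • T) := by
  refine ⟨fun h' => h.1 (smul_left_cancel g h'), ?_⟩
  obtain ⟨⟨x, hx⟩, hx1⟩ := Subgroup.ne_bot_iff_exists_ne_one.1 h.2
  obtain ⟨hxS, hxT⟩ := Subgroup.mem_inf.1 hx
  intro hb
  have : g * x * g⁻¹ ∈ ((g • S : Sylow p G) : Subgroup G) ⊓ ((g • T : Sylow p G) : Subgroup G) := by
    refine Subgroup.mem_inf.2 ⟨?_, ?_⟩ <;>
    · refine mem_smul.2 ?_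
      simpa [mul_assoc]
  rw [hb, Subgroup.mem_bot, conj_eq_one_iff] at this
  exact hx1 (Subtype.ext this)

theorem isSylowChainConnected_iff :
    Cfsg.IsSylowChainConnected p G ↔ ∀ S T : Sylow p G, Relation.ReflTransGen Adj S T := by
  constructor
  · intro h S T
    obtain ⟨n, c, h0, h1, -, h2⟩ := h S T
    subst h0 h1
    have : ∀ i : Fin (n + 1), Relation.ReflTransGen Adj (c 0) (c i) := by
      intro i
      induction i using Fin.induction with
      | zero => exact .refl
      | succ i ih => exact ih.tail (h2 i)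
    exact this _
  · intro h S T
    obtain rfl | hne := eq_or_ne S T
    · exact ⟨0, fun _ => S, rfl, rfl, fun _ => inf_le_left, fun i => i.elim0⟩
    by_cases hd : (S : Subgroup G) ⊓ (T : Subgroup G) = ⊥
    · have : ∀ U, Relation.ReflTransGen Adj S U → ∃ (n : ℕ) (c : Fin (n + 1) → Sylow p G),
          c 0 = S ∧ c (Fin.last n) = U ∧ ∀ i : Fin n, Adj (c i.castSucc) (c i.succ) := by
        intro U hU
        induction hU with
        | refl => exact ⟨0, fun _ => S, rfl, rfl, fun i => i.elim0⟩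
        | @tail V W _ hVW ih =>
          obtain ⟨n, c, hc0, hcn, hc⟩ := ih
          refine ⟨n + 1, Fin.snoc c W, ?_, Fin.snoc_last _ _, ?_⟩
          · rw [← hc0]
            exact Fin.snoc_castSucc (i := 0) ..
          · intro i
            induction i using Fin.lastCases with
            | last => rw [Fin.snoc_castSucc, Fin.succ_last, Fin.snoc_last, hcn]; exact hVW
            | cast j => rw [Fin.snoc_castSucc, Fin.succ_castSucc, Fin.snoc_castSucc]; exact hc j
      obtain ⟨n, c, h0, h1, h2⟩ := this T (h S T)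
      exact ⟨n, c, h0, h1, fun i => hd.le.trans bot_le, h2⟩
    · refine ⟨1, ![S, T], rfl, rfl, fun i => ?_, fun i => ?_⟩
      · fin_cases i
        · exact inf_le_left
        · exact inf_le_right
      · fin_cases i
        exact ⟨hne, hd⟩

section

variable [Finite G]

/-- The stabiliser of the component of a Sylow subgroup. -/
def compStab (S : Sylow p G) : Subgroup G where
  carrier := {g | Relation.ReflTransGen Adj S (g • S)}
  mul_mem' {a b} ha hb := by
    have h : Relation.ReflTransGen Adj (a • S) (a • b • S) :=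
      Relation.ReflTransGen.lift (fun T : Sylow p G => a • T) (fun _ _ => adj_smul a) _ _ hb
    have h' := ha.trans h
    rwa [smul_smul] at h'
  one_mem' := by simp only [Set.mem_setOf_eq, one_smul]; exact .refl
  inv_mem' {a} ha := by
    have h : Relation.ReflTransGen Adj (a⁻¹ • S) (a⁻¹ • a • S) :=
      Relation.ReflTransGen.lift (fun T : Sylow p G => a⁻¹ • T) (fun _ _ => adj_smul a⁻¹) _ _ ha
    rw [inv_smul_smul] at h
    have : Std.Symm (Adj (G := G) (p := p)) := ⟨fun _ _ => adj_symm⟩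
    exact Relation.ReflTransGen.symmetric.symm _ _ h

theorem mem_compStab {S : Sylow p G} {g : G} :
    g ∈ compStab S ↔ Relation.ReflTransGen Adj S (g • S) := Iff.rfl

theorem le_compStab (S : Sylow p G) : (S : Subgroup G) ≤ compStab S := by
  intro s hs
  rw [mem_compStab, Sylow.smul_eq_iff_mem_normalizer.2 (Subgroup.le_normalizer hs)]

variable [Fact p.Prime]

theorem exists_se_of_not_connected (h : ¬ Cfsg.IsSylowChainConnected p G) :
    ∃ H : Subgroup G, H ≠ ⊤ ∧ p ∣ Nat.card H ∧ SE p H := by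
  classical
  rw [isSylowChainConnected_iff] at h
  simp only [not_forall] at h
  obtain ⟨S, T, hST⟩ := h
  refine ⟨compStab S, ?_, ?_, ?_⟩
  · intro ht
    obtain ⟨g, rfl⟩ := MulAction.exists_smul_eq G S T
    exact hST (mem_compStab.1 (ht ▸ Subgroup.mem_top g))
  · have hne : (S : Subgroup G) ≠ ⊥ := by
      intro hb
      obtain ⟨g, rfl⟩ := MulAction.exists_smul_eq G S T
      apply hST
      rw [Sylow.smul_eq_iff_mem_normalizer.2 (by rw [← S.coe_coe, hb, Subgroup.normalizer_eq_top]; trivial)]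
    refine dvd_trans ?_ (Subgroup.card_dvd_of_le (le_compStab S))
    obtain ⟨k, hk0, hk⟩ := IsPGroup.iff_card.1 S.2 |>.imp fun k hk => (⟨fun h0 => hne (by
      rw [h0, pow_zero] at hk
      exact Subgroup.card_eq_one.1 hk), hk⟩ : k ≠ 0 ∧ _)
    rw [hk]
    exact dvd_pow_self p hk0
  · intro g hg hdvd
    apply hg
    obtain ⟨⟨x, hx⟩, hxo⟩ := exists_prime_orderOf_dvd_card' p hdvd
    rw [Subgroup.orderOf_mk] at hxo
    obtain ⟨hxH, y, hy, hyx⟩ := Subgroup.mem_inf.1 hx
    have key : ∀ (z : G), z ∈ compStab S → orderOf z = p → ∀ U : Sylow p G, z ∈ U →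
        Relation.ReflTransGen Adj S U := by
      intro z hzH hzo U hzU
      let z' : ↥(compStab S) := ⟨z, hzH⟩
      have hzp : IsPGroup p (zpowers z') := IsPGroup.of_card (n := 1) (by
        rw [Nat.card_zpowers, pow_one, Subgroup.orderOf_mk, hzo])
      obtain ⟨V, hV⟩ := hzp.exists_le_sylow
      obtain ⟨k, hk⟩ := MulAction.exists_smul_eq (compStab S) (S.subtype (le_compStab S)) V
      have hzV : z ∈ ((k : G) • S : Sylow p G) := by
        have hz : z' ∈ (k • S.subtype (le_compStab S) : Sylow p ↥(compStab S)) :=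
          hk.symm ▸ hV (mem_zpowers z')
        rw [mem_smul] at hz ⊢
        change k⁻¹ * z' * k ∈ ((S.subtype (le_compStab S) : Sylow p ↥(compStab S)) :
          Subgroup ↥(compStab S)) at hz
        rw [Sylow.coe_subtype, Subgroup.mem_subgroupOf] at hz
        exact hz
      refine (mem_compStab.1 k.2).trans ?_
      obtain h0 | h0 := eq_or_ne ((k : G) • S) U
      · rw [h0]
      · refine .single ⟨h0, fun hb => ?_⟩
        have : z ∈ (((k : G) • S : Sylow p G) : Subgroup G) ⊓ (U : Subgroup G) :=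
          Subgroup.mem_inf.2 ⟨hzV, hzU⟩
        rw [hb, Subgroup.mem_bot] at this
        rw [this, orderOf_one] at hzo
        exact (Fact.out : p.Prime).ne_one hzo.symm
    obtain ⟨U, hU⟩ := (IsPGroup.of_card (n := 1) (by rw [Nat.card_zpowers, pow_one, hxo]) :
      IsPGroup p (zpowers x)).exists_le_sylow
    have hxU : x ∈ U := hU (mem_zpowers x)
    have h1 := key x hxH hxo U hxU
    have h2 := key y hy (by
      rw [← hxo, ← hyx]
      exact (MulEquiv.orderOf_eq (MulAut.conj g) y).symm) (g⁻¹ • U) (by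
      rw [mem_smul]
      simpa [← hyx] using hxU)
    have h3 : Relation.ReflTransGen Adj (g • S) (g • g⁻¹ • U) :=
      Relation.ReflTransGen.lift (fun T : Sylow p G => g • T) (fun _ _ => adj_smul g) _ _ h2
    rw [smul_inv_smul] at h3
    rw [mem_compStab]
    have : Std.Symm (Adj (G := G) (p := p)) := ⟨fun _ _ => adj_symm⟩
    exact h1.trans (Relation.ReflTransGen.symmetric.symm _ _ h3)

theorem normalizer_le {H : Subgroup G} (hse : SE p H) {Q : Subgroup G} (hQp : IsPGroup p Q)
    (hQ : Q ≠ ⊥) (hQH : Q ≤ H) : normalizer (Q : Set G) ≤ H := by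
  intro g hg
  by_contra h
  apply hse g h
  refine dvd_trans ?_ (Subgroup.card_dvd_of_le (le_inf hQH ?_))
  · obtain ⟨k, hk⟩ := IsPGroup.iff_card.1 hQp
    rw [hk]
    refine dvd_pow_self p fun h0 => hQ ?_
    rw [h0, pow_zero] at hk
    exact Subgroup.card_eq_one.1 hk
  · intro q hq
    refine ⟨g⁻¹ * q * g, hQH ?_, by simp [mul_assoc]⟩
    exact (Subgroup.mem_normalizer_iff''.1 hg q).1 hq

theorem centralizer_le {H : Subgroup G} (hse : SE p H) {x : G} (hx : orderOf x = p)
    (hxH : x ∈ H) : centralizer {x} ≤ H := by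
  refine le_trans ?_ (normalizer_le hse
    (IsPGroup.of_card (n := 1) (by rw [Nat.card_zpowers, pow_one, hx]))
    (by rw [ne_eq, zpowers_eq_bot]; rintro rfl; rw [orderOf_one] at hx
        exact (Fact.out : p.Prime).ne_one hx.symm) (zpowers_le.2 hxH))
  intro g hg
  apply Subgroup.centralizer_le_normalizer
  rw [Subgroup.mem_centralizer_iff]
  intro h hh
  obtain ⟨i, rfl⟩ := mem_zpowers_iff.1 hh
  exact ((show Commute g x from Subgroup.mem_centralizer_singleton_iff.1 hg).zpow_right i).eq.symm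

theorem sylow_le_of_mem {H : Subgroup G} (hse : SE p H) {T : Sylow p G}
    (h : H ⊓ (T : Subgroup G) ≠ ⊥) : (T : Subgroup G) ≤ H := by
  by_contra hT
  have : Group.IsNilpotent (T : Subgroup G) := T.2.isNilpotent
  set Q := (H ⊓ (T : Subgroup G)).subgroupOf (T : Subgroup G) with hQ
  have hlt : Q < ⊤ := lt_top_iff_ne_top.2 fun ht =>
    hT ((subgroupOf_eq_top.1 ht).trans inf_le_left)
  obtain ⟨t, ht, htQ⟩ := SetLike.exists_of_lt (Group.normalizerCondition_of_isNilpotent Q hlt)
  apply htQ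
  rw [hQ, Subgroup.mem_subgroupOf]
  refine Subgroup.mem_inf.2 ⟨normalizer_le hse (T.2.to_le inf_le_right) h inf_le_left ?_, t.2⟩
  rw [Subgroup.mem_normalizer_iff] at ht ⊢
  intro x
  constructor
  · intro hx
    exact (ht ⟨x, (Subgroup.mem_inf.1 hx).2⟩).1 hx
  · intro hx
    have hxT : x ∈ (T : Subgroup G) := by
      have := mul_mem (mul_mem (inv_mem t.2) (Subgroup.mem_inf.1 hx).2) t.2
      simpa [mul_assoc] using this
    exact (ht ⟨x, hxT⟩).2 hx

theorem exists_sylow_le {H : Subgroup G} (hpH : p ∣ Nat.card H) (hse : SE p H) :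
    ∃ T : Sylow p G, (T : Subgroup G) ≤ H ∧ (T : Subgroup G) ≠ ⊥ := by
  obtain ⟨⟨x, hxH⟩, hx⟩ := exists_prime_orderOf_dvd_card' p hpH
  rw [Subgroup.orderOf_mk] at hx
  obtain ⟨T, hT⟩ := (IsPGroup.of_card (n := 1) (by rw [Nat.card_zpowers, pow_one, hx]) :
    IsPGroup p (zpowers x)).exists_le_sylow
  have hx1 : x ≠ 1 := by
    rintro rfl; rw [orderOf_one] at hx; exact (Fact.out : p.Prime).ne_one hx.symm
  have hne : (T : Subgroup G) ≠ ⊥ := fun hb => hx1 (by
    have := hT (mem_zpowers x)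
    rwa [hb, Subgroup.mem_bot] at this)
  refine ⟨T, sylow_le_of_mem hse fun hb => hx1 ?_, hne⟩
  have : x ∈ H ⊓ (T : Subgroup G) := Subgroup.mem_inf.2 ⟨hxH, hT (mem_zpowers x)⟩
  rwa [hb, Subgroup.mem_bot] at this

theorem not_connected_of_se {H : Subgroup G} (hH : H ≠ ⊤) (hpH : p ∣ Nat.card H)
    (hse : SE p H) : ¬ Cfsg.IsSylowChainConnected p G := by
  rw [isSylowChainConnected_iff]
  intro hconn
  obtain ⟨T, hTH, hT⟩ := exists_sylow_le hpH hse
  have hall : ∀ U : Sylow p G, Relation.ReflTransGen Adj T U → (U : Subgroup G) ≤ H := by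
    intro U hU
    induction hU with
    | refl => exact hTH
    | @tail V W _ hVW ih =>
      refine sylow_le_of_mem hse fun hb => hVW.2 (le_bot_iff.1 (hb ▸ ?_))
      exact inf_le_inf ih le_rfl
  obtain ⟨g, -, hg⟩ := SetLike.exists_of_lt (lt_top_iff_ne_top.2 hH)
  apply hse g hg
  obtain ⟨k, hk⟩ := IsPGroup.iff_card.1 T.2
  have hg' : ((g⁻¹ • T : Sylow p G) : Subgroup G) ≤ H := hall _ (hconn _ _)
  have hle : (T : Subgroup G) ≤ H ⊓ H.map (MulAut.conj g).toMonoidHom := by
    refine le_inf hTH fun x hx => ⟨g⁻¹ * x * g, hg' ?_, by simp [mul_assoc]⟩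
    refine mem_smul.2 ?_
    have he : g⁻¹⁻¹ * (g⁻¹ * x * g) * g⁻¹ = x := by group
    rw [he]
    exact hx
  refine dvd_trans ?_ (Subgroup.card_dvd_of_le hle)
  rw [hk]
  refine dvd_pow_self p fun h0 => hT ?_
  rw [h0, pow_zero] at hk
  exact Subgroup.card_eq_one.1 hk

theorem not_le_of_normal {H N : Subgroup G} [N.Normal] (hH : H ≠ ⊤) (hse : SE p H)
    (hN : p ∣ Nat.card N) : ¬ N ≤ H := by
  intro hle
  obtain ⟨g, -, hg⟩ := SetLike.exists_of_lt (lt_top_iff_ne_top.2 hH)
  refine hse g hg (hN.trans (Subgroup.card_dvd_of_le (le_inf hle fun x hx =>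
    ⟨g⁻¹ * x * g, hle (Subgroup.Normal.conj_mem' inferInstance x hx g), by simp [mul_assoc]⟩)))

/-- A normal subgroup of order divisible by `p` has an element of order `p` in every Sylow subgroup. -/
theorem exists_mem_sylow {N : Subgroup G} [N.Normal] (hN : p ∣ Nat.card N) (S : Sylow p G) :
    ∃ x ∈ N, orderOf x = p ∧ x ∈ S := by
  obtain ⟨⟨x, hxN⟩, hx⟩ := exists_prime_orderOf_dvd_card' p hN
  rw [Subgroup.orderOf_mk] at hx
  obtain ⟨T, hT⟩ := (IsPGroup.of_card (n := 1) (by rw [Nat.card_zpowers, pow_one, hx]) :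
    IsPGroup p (zpowers x)).exists_le_sylow
  obtain ⟨g, rfl⟩ := MulAction.exists_smul_eq G S T
  refine ⟨g⁻¹ * x * g, Subgroup.Normal.conj_mem' inferInstance x hxN g, ?_,
    mem_smul.1 (hT (mem_zpowers x))⟩
  rw [← hx]
  simpa using MulEquiv.orderOf_eq (MulAut.conj g⁻¹) x

end

end Cfsg.Agent.SylowGraph
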